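import Cfsg.Agent.H72.CVA.Row
import Cfsg.Agent.H356.TA.Fix

/-!
# S3442, row O1: own characteristic of `PSL_n(q)`, `n = 3` or `n ≥ 5` (final form)
-/

set_option autoImplicit false

namespace Cfsg.Agent.H72.CVA

universe u v

/-- The engine hypothesis holds (helper356). -/
theorem engA : EngA.{u, v} := by
  intro F _ _ p _ _ n hn x hx θ g hxg hJ
  exact H356.TA.fixAll_SL (by omega) x hx θ g hxg hJ

/-- Row `psl_own` of `HitRows`, `n = 3` or `n ≥ 5`. -/
theorem psl_own (F : Type v) [Field F] [Fintype F] (p : ℕ) [Fact p.Prime] [CharP F p] (n : ℕ)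
    (hn : n = 3 ∨ 5 ≤ n) (hq2 : Fintype.card F ≠ 2) :
    H373.CV.Hit.{u, v} p (Matrix.ProjectiveSpecialLinearGroup (Fin n) F) :=
  hit_psl engA p hn (fun _ => lt_of_le_of_ne (Fintype.one_lt_card (α := F)) (Ne.symm hq2))

end Cfsg.Agent.H72.CVA
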