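import Cfsg.Agent.H425.KFix
import Cfsg.Agent.H934.MF.Diag
import Cfsg.Agent.H72.CVA.Sq

/-!
# Elements of `SL_n(F)` with a given characteristic polynomial and fixed vectors on all modules
-/

set_option autoImplicit false

namespace Cfsg.Agent.H72.CVA

open Polynomial Matrix
open Cfsg.Agent.H425.KFix

universe u v

/-- **The engine of type A** (helper356): an element which is diagonalisable over the algebraic closure and such that, for
every `k`, some `k` of its eigenvalues have product 1 has fixed vectors on all modules in its own characteristic. -/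
def EngA : Prop := ∀ (F : Type v) [Field F] [Fintype F] (p : ℕ) [Fact p.Prime] [CharP F p] (n : ℕ) (_ : 2 ≤ n)
  (x : SpecialLinearGroup (Fin n) F) (_ : (orderOf x).Coprime p) (θ : Fin n → AlgebraicClosure F)
  (g : GL (Fin n) (AlgebraicClosure F))
  (_ : (x : Matrix (Fin n) (Fin n) F).map (algebraMap F (AlgebraicClosure F)) =
    (g : Matrix (Fin n) (Fin n) (AlgebraicClosure F)) * Matrix.diagonal θ *
      ((g⁻¹ : GL (Fin n) (AlgebraicClosure F)) : Matrix (Fin n) (Fin n) (AlgebraicClosure F)))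
  (_ : ∀ k ≤ n, ∃ J : Finset (Fin n), J.card = k ∧ ∏ j ∈ J, θ j = 1), FixAll.{u} p x

section Mat

variable {F : Type v} [Field F]

theorem exists_mat {P : F[X]} (hP : P.Monic) {n : ℕ} (hn : P.natDegree = n) :
    ∃ M : Matrix (Fin n) (Fin n) F, M.charpoly = P ∧ ∀ Q : F[X], aeval M Q = 0 ↔ P ∣ Q := by
  classical
  subst hn
  have hmin : minpoly F (AdjoinRoot.powerBasis' hP).gen = P := by
    rw [AdjoinRoot.powerBasis'_gen, AdjoinRoot.minpoly_root hP.ne_zero, hP.leadingCoeff, inv_one, C_1, mul_one]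
  have e : Fin (AdjoinRoot.powerBasis' hP).dim ≃ Fin P.natDegree := finCongr (AdjoinRoot.powerBasis'_dim hP)
  set M0 := Algebra.leftMulMatrix (AdjoinRoot.powerBasis' hP).basis (AdjoinRoot.powerBasis' hP).gen with hM0
  refine ⟨Matrix.reindexAlgEquiv F F e M0, ?_, fun Q => ?_⟩
  · rw [Matrix.coe_reindexAlgEquiv, Matrix.charpoly_reindex, hM0, charpoly_leftMulMatrix, hmin]
  · have h1 : aeval (Matrix.reindexAlgEquiv F F e M0) Q = Matrix.reindexAlgEquiv F F e (aeval M0 Q) :=
      aeval_algHom_apply (Matrix.reindexAlgEquiv F F e).toAlgHom M0 Q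
    rw [h1, map_eq_zero_iff _ (Matrix.reindexAlgEquiv F F e).injective, hM0,
      aeval_algHom_apply, map_eq_zero_iff _ (Algebra.leftMulMatrix_injective _), AdjoinRoot.powerBasis'_gen,
      AdjoinRoot.aeval_eq, AdjoinRoot.mk_eq_zero]

/-- every size is the size of a set of roots with product 1 -/
def Cov (P : F[X]) : Prop := ∀ k ≤ P.natDegree, ∃ T : Finset (AlgebraicClosure F), T.card = k ∧
  (∀ t ∈ T, aeval t P = 0) ∧ ∏ t ∈ T, t = 1

theorem exists_elt [Fintype F] (hE : EngA.{u, v}) (p : ℕ) [Fact p.Prime] [CharP F p] {P : F[X]} (hP : P.Monic)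
    {n : ℕ} (hn : P.natDegree = n) (h2 : 2 ≤ n) (hC : Cov P) {N : ℕ} (hN : ∀ t : AlgebraicClosure F, aeval t P = 0 → t ^ N = 1)
    (hNp : N.Coprime p) : ∃ x : SpecialLinearGroup (Fin n) F,
      (∀ Q : F[X], aeval (x : Matrix (Fin n) (Fin n) F) Q = 0 ↔ P ∣ Q) ∧ x ^ N = 1 ∧ FixAll.{u} p x := by
  classical
  set f := algebraMap F (AlgebraicClosure F) with hf
  have hN0 : N ≠ 0 := by
    rintro rfl
    rw [Nat.coprime_zero_left] at hNp
    exact (Fact.out : p.Prime).ne_one hNp
  obtain ⟨T, hT, hTr, hT1⟩ := hC n hn.ge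
  have hPm : (P.map f).Monic := hP.map f
  have hroot : ∀ t : AlgebraicClosure F, aeval t P = 0 ↔ t ∈ (P.map f).roots := by
    intro t
    rw [mem_roots hPm.ne_zero, IsRoot.def, eval_map_algebraMap]
  have hle : T.val ≤ (P.map f).roots := by
    rw [Multiset.le_iff_subset T.nodup]
    intro t ht
    exact (hroot t).1 (hTr t ht)
  have hval : T.val = (P.map f).roots := by
    refine Multiset.eq_of_le_of_card_le hle ?_
    have h1 := card_roots' (P.map f)
    rw [hP.natDegree_map, hn] at h1
    exact h1.trans (le_of_eq hT.symm)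
  have hcard : Multiset.card (P.map f).roots = (P.map f).natDegree := by
    rw [← hval, hP.natDegree_map, hn]; exact hT
  have hprod : (T.val.map fun a => X - C a).prod = P.map f := by
    rw [hval]
    exact prod_multiset_X_sub_C_of_monic_of_roots_card_eq hPm hcard
  -- the constant term
  have hev : P.coeff 0 = (-1) ^ n := by
    apply f.injective
    rw [← coeff_map, ← hprod, coeff_zero_eq_eval_zero]
    have h3 : (T.val.map fun a => X - C a).prod = ∏ t ∈ T, (X - C t) := rfl
    rw [h3, eval_prod]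
    have h4 : ∀ t ∈ T, eval 0 (X - C t) = -1 * t := by
      intro t _
      rw [eval_sub, eval_X, eval_C, zero_sub, neg_one_mul]
    rw [Finset.prod_congr rfl h4, Finset.prod_mul_distrib, hT1, Finset.prod_const, hT, mul_one, map_pow, map_neg,
      map_one]
  obtain ⟨M, hM, hMQ⟩ := exists_mat hP hn
  have hdet : M.det = 1 := by
    rw [Matrix.det_eq_sign_charpoly_coeff, hM, hev, Fintype.card_fin, ← mul_pow, neg_one_mul, neg_neg, one_pow]
  set x : SpecialLinearGroup (Fin n) F := ⟨M, hdet⟩ with hx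
  have hxM : (x : Matrix (Fin n) (Fin n) F) = M := rfl
  -- the order
  have hxN : x ^ N = 1 := by
    have h3 : P ∣ X ^ N - 1 := by
      rw [← Polynomial.map_dvd_map' f, ← hprod, Polynomial.map_sub, Polynomial.map_pow, map_X, Polynomial.map_one]
      have hne : (X ^ N - 1 : (AlgebraicClosure F)[X]) ≠ 0 := by
        have h9 := X_pow_sub_C_ne_zero (Nat.pos_of_ne_zero hN0) (1 : AlgebraicClosure F)
        rwa [C_1] at h9
      rw [Multiset.prod_X_sub_C_dvd_iff_le_roots hne, Multiset.le_iff_subset T.nodup]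
      intro t ht
      rw [mem_roots hne, IsRoot.def, eval_sub, eval_pow, eval_X, eval_one, hN t (hTr t ht), sub_self]
    have h4 := (hMQ _).2 h3
    rw [map_sub, map_pow, aeval_X, map_one] at h4
    have h5 : ((x ^ N : SpecialLinearGroup (Fin n) F) : Matrix (Fin n) (Fin n) F) = M ^ N :=
      Matrix.SpecialLinearGroup.coe_pow x N
    exact Subtype.ext (h5.trans (sub_eq_zero.1 h4))
  refine ⟨x, hMQ, hxN, ?_⟩
  -- the eigenvalues
  let e : Fin n ≃ T := (T.equivFinOfCardEq hT).symm
  let θ : Fin n → AlgebraicClosure F := fun i => (e i : AlgebraicClosure F)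
  have hθ : Function.Injective θ := fun i j h => e.injective (Subtype.ext h)
  obtain ⟨g, hg⟩ := Cfsg.Agent.H934.MF.diag_of_roots (M.map f) hθ (fun i => by
    rw [Matrix.charpoly_map, hM, IsRoot.def, eval_map_algebraMap]
    exact hTr _ (e i).2)
  refine hE F p n h2 x ((Nat.Coprime.coprime_dvd_left (orderOf_dvd_of_pow_eq_one hxN)) hNp) θ g hg fun k hk => ?_
  obtain ⟨T', hT', hTr', hT1'⟩ := hC k (hk.trans hn.ge)
  have hsub : T' ⊆ T := by
    intro t ht
    have h3 := (hroot t).1 (hTr' t ht)
    rw [← hval] at h3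
    exact h3
  set J := Finset.univ.filter fun i => θ i ∈ T' with hJ
  have himg : J.image θ = T' := by
    ext t
    rw [Finset.mem_image]
    constructor
    · rintro ⟨i, hi, rfl⟩
      exact (Finset.mem_filter.1 hi).2
    · intro ht
      refine ⟨e.symm ⟨t, hsub ht⟩, ?_, ?_⟩
      · rw [hJ, Finset.mem_filter]
        refine ⟨Finset.mem_univ _, ?_⟩
        show ((e (e.symm ⟨t, hsub ht⟩) : T) : AlgebraicClosure F) ∈ T'
        rw [Equiv.apply_symm_apply]
        exact ht
      · show ((e (e.symm ⟨t, hsub ht⟩) : T) : AlgebraicClosure F) = t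
        rw [Equiv.apply_symm_apply]
  refine ⟨J, ?_, ?_⟩
  · rw [← hT', ← himg, Finset.card_image_of_injective _ hθ]
  · rw [← hT1', ← himg, Finset.prod_image hθ.injOn]

end Mat

end Cfsg.Agent.H72.CVA
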