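import Cfsg.Agent.H72.CVA.Elem

/-!
# Conjugates of elements of the algebraic closure of a finite field and sets of conjugates with product 1
-/

set_option autoImplicit false

namespace Cfsg.Agent.H72.CVA

open Polynomial Finset

universe v

section Blk

variable {F : Type v} [Field F] [Fintype F]

/-- `b` has order `r`, and `r ∣ q ^ d - 1` if and only if `a ∣ d` -/
structure Blk (b : AlgebraicClosure F) (r a : ℕ) : Prop where
  ord : orderOf b = r
  iff : ∀ d, r ∣ Fintype.card F ^ d - 1 ↔ a ∣ d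
  pos : 0 < a

theorem Blk.dvd_pow {b : AlgebraicClosure F} {r a : ℕ} (h : Blk b r a) : r ∣ Fintype.card F ^ a - 1 :=
  (h.iff a).2 dvd_rfl

theorem Blk.r_pos {b : AlgebraicClosure F} {r a : ℕ} (h : Blk b r a) : 0 < r := by
  refine Nat.pos_of_dvd_of_pos h.dvd_pow ?_
  have h1 : 2 ≤ Fintype.card F := Fintype.one_lt_card
  have h2 : Fintype.card F ≤ Fintype.card F ^ a := Nat.le_self_pow h.pos.ne' _
  omega

theorem Blk.ne_zero {b : AlgebraicClosure F} {r a : ℕ} (h : Blk b r a) : b ≠ 0 := by
  rintro rfl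
  have h1 := pow_orderOf_eq_one (0 : AlgebraicClosure F)
  rw [h.ord, zero_pow h.r_pos.ne'] at h1
  exact zero_ne_one h1

theorem Blk.cop {b : AlgebraicClosure F} {r a : ℕ} (h : Blk b r a) (j : ℕ) : r.Coprime (Fintype.card F ^ j) := by
  refine Nat.Coprime.pow_right j ?_
  have hq : 1 ≤ Fintype.card F ^ a := Nat.one_le_pow _ _ Fintype.card_pos
  have h1 : Nat.Coprime (Fintype.card F ^ a - 1) (Fintype.card F ^ a) := by
    obtain ⟨k, hk⟩ : ∃ k, Fintype.card F ^ a = k + 1 := ⟨_, (Nat.sub_add_cancel hq).symm⟩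
    rw [hk, Nat.add_sub_cancel]
    exact Nat.coprime_self_add_right.2 (Nat.coprime_one_right k)
  exact (Nat.Coprime.coprime_dvd_left h.dvd_pow h1).coprime_dvd_right (dvd_pow_self _ h.pos.ne')

theorem Blk.inj {b : AlgebraicClosure F} {r a : ℕ} (h : Blk b r a) {i j : ℕ} (hi : i < a) (hj : j < a)
    (e : b ^ (Fintype.card F ^ i) = b ^ (Fintype.card F ^ j)) : i = j := by
  have key : ∀ i j : ℕ, i ≤ j → j < a → b ^ (Fintype.card F ^ i) = b ^ (Fintype.card F ^ j) → i = j := by
    intro i j hij hj e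
    have h1 : r ∣ Fintype.card F ^ j - Fintype.card F ^ i := by
      rw [← h.ord, orderOf_dvd_iff_pow_eq_one]
      refine mul_left_cancel₀ (pow_ne_zero (Fintype.card F ^ i) h.ne_zero) ?_
      rw [mul_one, ← pow_add, Nat.add_sub_cancel' (Nat.pow_le_pow_right Fintype.card_pos hij), e]
    have h2 : Fintype.card F ^ j - Fintype.card F ^ i = Fintype.card F ^ i * (Fintype.card F ^ (j - i) - 1) := by
      rw [Nat.mul_sub, ← pow_add, Nat.add_sub_cancel' hij, mul_one]
    rw [h2] at h1
    have h3 := (h.cop i).dvd_of_dvd_mul_left h1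
    have h4 := (h.iff _).1 h3
    rcases Nat.eq_zero_or_pos (j - i) with h5 | h5
    · omega
    · have := Nat.le_of_dvd h5 h4
      omega
  rcases le_total i j with h1 | h1
  · exact key i j h1 hj e
  · exact (key j i h1 hi e.symm).symm

theorem Blk.frob {b : AlgebraicClosure F} {r a : ℕ} (h : Blk b r a) : b ^ (Fintype.card F ^ a) = b := by
  have hq : 1 ≤ Fintype.card F ^ a := Nat.one_le_pow _ _ Fintype.card_pos
  have h1 : b ^ (Fintype.card F ^ a - 1) = 1 := by
    rw [← orderOf_dvd_iff_pow_eq_one, h.ord]; exact h.dvd_pow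
  conv_rhs => rw [← one_mul b, ← h1, ← pow_succ]
  rw [Nat.sub_add_cancel hq]

omit [Fintype F] in
theorem Blk.int (b : AlgebraicClosure F) : IsIntegral F b := Algebra.IsIntegral.isIntegral b

theorem Blk.root (b : AlgebraicClosure F) (j : ℕ) : aeval (b ^ (Fintype.card F ^ j)) (minpoly F b) = 0 :=
  Cfsg.Agent.H934.MF.root_pow (minpoly.aeval F b) j

theorem Blk.natDegree {b : AlgebraicClosure F} {r a : ℕ} (h : Blk b r a) : (minpoly F b).natDegree = a := by
  classical
  have hm0 : minpoly F b ≠ 0 := minpoly.ne_zero (Blk.int b)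
  refine le_antisymm ?_ ?_
  · by_contra hlt
    push Not at hlt
    have : FiniteDimensional F (IntermediateField.adjoin F {b}) :=
      IntermediateField.adjoin.finiteDimensional (Blk.int b)
    have hfin : Finite (IntermediateField.adjoin F {b}) := Module.finite_of_finite F
    have h1 : (minpoly F (IntermediateField.AdjoinSimple.gen F b)).natDegree = (minpoly F b).natDegree := by
      rw [IntermediateField.minpoly_gen]
    have h2 := Cfsg.Agent.H934.MF.pow_inj h1
    have h3 : (⟨0, by omega⟩ : Fin (minpoly F b).natDegree) = ⟨a, hlt⟩ := by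
      apply h2
      beta_reduce
      apply Subtype.ext
      show ((IntermediateField.AdjoinSimple.gen F b : IntermediateField.adjoin F {b}) : AlgebraicClosure F) ^
        (Fintype.card F ^ 0) = ((IntermediateField.AdjoinSimple.gen F b : IntermediateField.adjoin F {b}) :
          AlgebraicClosure F) ^ (Fintype.card F ^ a)
      rw [IntermediateField.AdjoinSimple.coe_gen, pow_zero, pow_one, h.frob]
    have h4 := congrArg Fin.val h3
    have h5 := h.pos
    simp only at h4
    omega
  · set f := algebraMap F (AlgebraicClosure F)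
    have hmap : (minpoly F b).map f ≠ 0 := Polynomial.map_ne_zero hm0
    have h1 : ((range a).image fun j => b ^ (Fintype.card F ^ j)) ⊆ ((minpoly F b).map f).roots.toFinset := by
      intro t ht
      rw [mem_image] at ht
      obtain ⟨j, -, rfl⟩ := ht
      rw [Multiset.mem_toFinset, mem_roots hmap, IsRoot.def, eval_map_algebraMap]
      exact Blk.root b j
    have h2 := card_le_card h1
    rw [card_image_of_injOn (fun i hi j hj e => h.inj (mem_range.1 hi) (mem_range.1 hj) e), card_range] at h2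
    refine h2.trans ((Multiset.toFinset_card_le _).trans ((card_roots' _).trans ?_))
    rw [natDegree_map]

theorem Blk.pow_root {b : AlgebraicClosure F} {r a : ℕ} (h : Blk b r a) {t : AlgebraicClosure F}
    (ht : aeval t (minpoly F b) = 0) : t ^ r = 1 := by
  have h1 : minpoly F b ∣ X ^ r - 1 := by
    apply minpoly.dvd
    rw [map_sub, map_pow, aeval_X, map_one, ← h.ord, pow_orderOf_eq_one, sub_self]
  obtain ⟨Q, hQ⟩ := h1
  have h2 : aeval t (X ^ r - 1 : F[X]) = 0 := by rw [hQ, map_mul, ht, zero_mul]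
  rw [map_sub, map_pow, aeval_X, map_one] at h2
  exact sub_eq_zero.1 h2

/-- the conjugates have the same order -/
theorem Blk.ord_pow {b : AlgebraicClosure F} {r a : ℕ} (h : Blk b r a) (j : ℕ) :
    orderOf (b ^ (Fintype.card F ^ j)) = r := by
  rw [Nat.Coprime.orderOf_pow (by rw [h.ord]; exact h.cop j), h.ord]

/-- pairs of conjugates -/
theorem Blk.pairs {b : AlgebraicClosure F} {r m : ℕ} (h : Blk b r (2 * m)) (hm : r ∣ Fintype.card F ^ m + 1) {k : ℕ}
    (hk : k ≤ m) : ∃ T : Finset (AlgebraicClosure F), T.card = 2 * k ∧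
      (∀ t ∈ T, ∃ j, t = b ^ (Fintype.card F ^ j)) ∧ ∏ t ∈ T, t = 1 := by
  classical
  have hinj1 : Set.InjOn (fun j => b ^ (Fintype.card F ^ j)) (range k : Set ℕ) := fun i hi j hj e => by
    rw [coe_range, Set.mem_Iio] at hi hj
    exact h.inj (by omega) (by omega) e
  have hinj2 : Set.InjOn (fun j => b ^ (Fintype.card F ^ (j + m))) (range k : Set ℕ) := fun i hi j hj e => by
    rw [coe_range, Set.mem_Iio] at hi hj
    have := h.inj (i := i + m) (j := j + m) (by omega) (by omega) e
    omega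
  have hdis : Disjoint ((range k).image fun j => b ^ (Fintype.card F ^ j))
      ((range k).image fun j => b ^ (Fintype.card F ^ (j + m))) := by
    rw [disjoint_left]
    intro t ht ht'
    rw [mem_image] at ht ht'
    obtain ⟨i, hi, rfl⟩ := ht
    obtain ⟨j, hj, e⟩ := ht'
    rw [mem_range] at hi hj
    have := h.inj (i := j + m) (j := i) (by omega) (by omega) e
    omega
  refine ⟨((range k).image fun j => b ^ (Fintype.card F ^ j)) ∪
    ((range k).image fun j => b ^ (Fintype.card F ^ (j + m))), ?_, ?_, ?_⟩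
  · rw [card_union_of_disjoint hdis, card_image_of_injOn hinj1, card_image_of_injOn hinj2, card_range]
    omega
  · intro t ht
    rw [mem_union, mem_image, mem_image] at ht
    rcases ht with ⟨j, -, rfl⟩ | ⟨j, -, rfl⟩
    · exact ⟨j, rfl⟩
    · exact ⟨j + m, rfl⟩
  · rw [prod_union hdis, prod_image hinj1, prod_image hinj2, ← prod_mul_distrib]
    refine prod_eq_one fun j _ => ?_
    have h1 : b ^ (Fintype.card F ^ m + 1) = 1 := by
      rw [← orderOf_dvd_iff_pow_eq_one, h.ord]; exact hm
    have h2 : Fintype.card F ^ j + Fintype.card F ^ (j + m) = (Fintype.card F ^ m + 1) * Fintype.card F ^ j := by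
      rw [pow_add]; ring
    rw [← pow_add, h2, pow_mul, h1, one_pow]

/-- all conjugates -/
theorem Blk.full {c : AlgebraicClosure F} {s l : ℕ} (h : Blk c s l) (hs : s.Prime) (hl : 2 ≤ l) :
    ∃ T : Finset (AlgebraicClosure F), T.card = l ∧ (∀ t ∈ T, ∃ j, t = c ^ (Fintype.card F ^ j)) ∧ ∏ t ∈ T, t = 1 := by
  classical
  have hinj1 : Set.InjOn (fun j => c ^ (Fintype.card F ^ j)) (range l : Set ℕ) := fun i hi j hj e => by
    rw [coe_range, Set.mem_Iio] at hi hj
    exact h.inj hi hj e
  refine ⟨(range l).image fun j => c ^ (Fintype.card F ^ j), ?_, ?_, ?_⟩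
  · rw [card_image_of_injOn hinj1, card_range]
  · intro t ht
    rw [mem_image] at ht
    obtain ⟨j, -, rfl⟩ := ht
    exact ⟨j, rfl⟩
  · rw [prod_image hinj1, prod_pow_eq_pow_sum, ← orderOf_dvd_iff_pow_eq_one, h.ord]
    have hq : 2 ≤ Fintype.card F := Fintype.one_lt_card
    have h1 : (Fintype.card F - 1) * ∑ j ∈ range l, Fintype.card F ^ j = Fintype.card F ^ l - 1 := by
      rw [Nat.geomSum_eq hq, Nat.mul_div_cancel']
      simpa using Nat.sub_dvd_pow_sub_pow (Fintype.card F) 1 l
    have h2 : s ∣ (Fintype.card F - 1) * ∑ j ∈ range l, Fintype.card F ^ j := by rw [h1]; exact h.dvd_pow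
    rcases (Nat.Prime.dvd_mul hs).1 h2 with h3 | h3
    · exfalso
      have h4 := (h.iff 1).1 (by rwa [pow_one])
      have := Nat.le_of_dvd one_pos h4
      omega
    · exact h3

/-- sets of conjugates of `b` and 1 -/
theorem Blk.small {b : AlgebraicClosure F} {r m : ℕ} (h : Blk b r (2 * m)) (hm : r ∣ Fintype.card F ^ m + 1)
    (hr : r ≠ 1) {k : ℕ} (hk : k ≤ 2 * m + 1) : ∃ T : Finset (AlgebraicClosure F), T.card = k ∧
      (∀ t ∈ T, t = 1 ∨ ∃ j, t = b ^ (Fintype.card F ^ j)) ∧ ∏ t ∈ T, t = 1 := by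
  classical
  obtain ⟨T, h1, h2, h3⟩ := h.pairs hm (k := k / 2) (by omega)
  rcases Nat.even_or_odd' k with ⟨j, hj | hj⟩
  · refine ⟨T, by omega, fun t ht => Or.inr (h2 t ht), h3⟩
  · have hnot : (1 : AlgebraicClosure F) ∉ T := by
      intro h4
      obtain ⟨j, hj⟩ := h2 1 h4
      apply hr
      rw [← h.ord_pow j, ← hj, orderOf_one]
    refine ⟨insert 1 T, ?_, ?_, ?_⟩
    · rw [card_insert_of_notMem hnot]; omega
    · intro t ht
      rw [mem_insert] at ht
      rcases ht with rfl | ht
      · exact Or.inl rfl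
      · exact Or.inr (h2 t ht)
    · rw [prod_insert hnot, h3, mul_one]

/-- the polynomials -/
theorem cov_one {b : AlgebraicClosure F} {r m : ℕ} (h : Blk b r (2 * m)) (hm : r ∣ Fintype.card F ^ m + 1)
    (hr : r ≠ 1) : (minpoly F b * (X - 1)).Monic ∧ (minpoly F b * (X - 1)).natDegree = 2 * m + 1 ∧
      Cov (minpoly F b * (X - 1)) ∧ ∀ t : AlgebraicClosure F, aeval t (minpoly F b * (X - 1)) = 0 → t ^ r = 1 := by
  have h1 : (minpoly F b).Monic := minpoly.monic (Blk.int b)
  have h2 : (X - 1 : F[X]).Monic := by rw [← C_1]; exact monic_X_sub_C 1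
  have hdeg : (minpoly F b * (X - 1)).natDegree = 2 * m + 1 := by
    rw [h1.natDegree_mul h2, h.natDegree, ← C_1, natDegree_X_sub_C]
  refine ⟨h1.mul h2, hdeg, fun k hk => ?_, fun t ht => ?_⟩
  · rw [hdeg] at hk
    obtain ⟨T, h3, h4, h5⟩ := h.small hm hr hk
    refine ⟨T, h3, fun t ht => ?_, h5⟩
    rw [map_mul]
    rcases h4 t ht with rfl | ⟨j, rfl⟩
    · rw [map_sub, aeval_X, map_one, sub_self, mul_zero]
    · rw [Blk.root, zero_mul]
  · rw [map_mul, mul_eq_zero] at ht
    rcases ht with ht | ht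
    · exact h.pow_root ht
    · rw [map_sub, aeval_X, map_one, sub_eq_zero] at ht
      rw [ht, one_pow]

theorem cov_two {b c : AlgebraicClosure F} {r m s l : ℕ} (h : Blk b r (2 * m)) (hm : r ∣ Fintype.card F ^ m + 1)
    (hr : r ≠ 1) (hc : Blk c s l) (hs : s.Prime) (hrs : r ≠ s) (hl : 2 ≤ l) (hlm : l ≤ 2 * m + 2) :
    (minpoly F b * (minpoly F c * (X - 1))).Monic ∧
      (minpoly F b * (minpoly F c * (X - 1))).natDegree = 2 * m + l + 1 ∧
      Cov (minpoly F b * (minpoly F c * (X - 1))) ∧
      ∀ t : AlgebraicClosure F, aeval t (minpoly F b * (minpoly F c * (X - 1))) = 0 → t ^ (r * s) = 1 := by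
  classical
  have h1 : (minpoly F b).Monic := minpoly.monic (Blk.int b)
  have h1' : (minpoly F c).Monic := minpoly.monic (Blk.int c)
  have h2 : (X - 1 : F[X]).Monic := by rw [← C_1]; exact monic_X_sub_C 1
  have hdeg : (minpoly F b * (minpoly F c * (X - 1))).natDegree = 2 * m + l + 1 := by
    rw [h1.natDegree_mul (h1'.mul h2), h1'.natDegree_mul h2, h.natDegree, hc.natDegree, ← C_1, natDegree_X_sub_C]
    omega
  have hroot : ∀ t : AlgebraicClosure F, (t = 1 ∨ ∃ j, t = b ^ (Fintype.card F ^ j)) ∨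
      (∃ j, t = c ^ (Fintype.card F ^ j)) → aeval t (minpoly F b * (minpoly F c * (X - 1))) = 0 := by
    rintro t ((rfl | ⟨j, rfl⟩) | ⟨j, rfl⟩)
    · rw [map_mul, map_mul, map_sub, aeval_X, map_one, sub_self, mul_zero, mul_zero]
    · rw [map_mul, Blk.root, zero_mul]
    · rw [map_mul, map_mul, Blk.root, zero_mul, mul_zero]
  refine ⟨h1.mul (h1'.mul h2), hdeg, fun k hk => ?_, fun t ht => ?_⟩
  · rw [hdeg] at hk
    by_cases hk' : k ≤ 2 * m + 1
    · obtain ⟨T, h3, h4, h5⟩ := h.small hm hr hk'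
      exact ⟨T, h3, fun t ht => hroot t (Or.inl (h4 t ht)), h5⟩
    · obtain ⟨T, h3, h4, h5⟩ := h.small hm hr (k := k - l) (by omega)
      obtain ⟨T', h3', h4', h5'⟩ := hc.full hs hl
      have hdis : Disjoint T T' := by
        rw [disjoint_left]
        intro t ht ht'
        obtain ⟨j, hj⟩ := h4' t ht'
        have e1 : orderOf t = s := by rw [hj]; exact hc.ord_pow j
        rcases h4 t ht with rfl | ⟨i, hi⟩
        · rw [orderOf_one] at e1
          exact hs.one_lt.ne e1
        · have e2 : orderOf t = r := by rw [hi]; exact h.ord_pow i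
          exact hrs (e2.symm.trans e1)
      refine ⟨T ∪ T', ?_, fun t ht => ?_, ?_⟩
      · rw [card_union_of_disjoint hdis]; omega
      · rw [mem_union] at ht
        rcases ht with ht | ht
        · exact hroot t (Or.inl (h4 t ht))
        · exact hroot t (Or.inr (h4' t ht))
      · rw [prod_union hdis, h5, h5', mul_one]
  · rw [map_mul, map_mul, mul_eq_zero, mul_eq_zero] at ht
    rcases ht with ht | ht | ht
    · rw [pow_mul, h.pow_root ht, one_pow]
    · rw [mul_comm, pow_mul, hc.pow_root ht, one_pow]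
    · rw [map_sub, aeval_X, map_one, sub_eq_zero] at ht
      rw [ht, one_pow]

end Blk

end Cfsg.Agent.H72.CVA
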