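import Cfsg.Agent.H373.CV.Base
import Cfsg.Agent.Lib.Zsigmondy
import Cfsg.Agent.H72.CVA.Roots

/-!
# S3442, row O1: the own characteristic of `PSL_n(q)`, `n = 3` or `n ≥ 5`

* `hit_of_fixAll`: the bridge `FixAll` → `Hit`;
* `ne_of_squarefree`: if the elements `Y` of `SL_n(F)` with `o ∣ orderOf Y` have squarefree characteristic polynomials
  then `p * o` is not an element order of `PSL_n(F)`;
* `hit_psl`: the row.
-/

set_option autoImplicit false

namespace Cfsg.Agent.H72.CVA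

open Polynomial Finset Matrix
open Cfsg.Agent.H425.KFix Cfsg.Agent.H373.CV

universe u v

/-- **the bridge** -/
theorem hit_of_fixAll {p : ℕ} [Fact p.Prime] {L : Type v} [Group L] {x : L} (h : FixAll.{u} p x)
    (hx : (orderOf x).Coprime p) (hno : ∀ y : L, orderOf y ≠ p * orderOf x) : Hit.{u, v} p L := by
  intro W _ _ _ hW φ
  let _ : Module (ZMod p) W := AddCommGroup.zmodModule (n := p) hW
  have hmul : ∀ (g g' : L) (w : W), φ (g * g') w = φ g (φ g' w) := fun g g' w => by rw [map_mul]; rfl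
  have hone : ∀ w : W, φ 1 w = w := fun w => by rw [map_one]; rfl
  let ρ : L →* (W ≃ₗ[ZMod p] W) :=
    { toFun := fun g =>
        { toFun := fun w => φ g w
          invFun := fun w => φ g⁻¹ w
          map_add' := fun a b => map_add (φ g) a b
          map_smul' := fun c w => ZMod.map_smul (φ g) c w
          left_inv := fun w => by
            show φ g⁻¹ (φ g w) = w
            rw [← hmul, inv_mul_cancel, hone]
          right_inv := fun w => by
            show φ g (φ g⁻¹ w) = w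
            rw [← hmul, mul_inv_cancel, hone] }
      map_one' := by ext w; exact hone w
      map_mul' := fun g g' => by ext w; exact hmul g g' w }
  obtain ⟨w, hw0, hw⟩ := h W ρ
  have hw1 : φ x w = w := hw
  have hpow : ∀ i : ℕ, φ (x ^ i) w = w := by
    intro i
    induction i with
    | zero => rw [pow_zero, hone]
    | succ i ih => rw [pow_succ, hmul, hw1, ih]
  refine ⟨x, w, ?_, hno⟩
  rw [Finset.sum_congr rfl fun i _ => hpow i, sum_const, card_range]
  intro h0
  apply hw0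
  have h1 : addOrderOf w ∣ orderOf x := addOrderOf_dvd_of_nsmul_eq_zero h0
  have h2 : addOrderOf w ∣ p := addOrderOf_dvd_of_nsmul_eq_zero (hW w)
  have h3 : addOrderOf w = 1 := Nat.eq_one_of_dvd_coprimes hx h1 h2
  exact AddMonoid.addOrderOf_eq_one_iff.1 h3

section SL

variable {F : Type v} [Field F] {n : ℕ}

/-- scalar elements of `SL_n(F)` are central -/
theorem mem_center_of {Y : Matrix.SpecialLinearGroup (Fin n) F} {c : F}
    (h : (Y : Matrix (Fin n) (Fin n) F) = algebraMap F (Matrix (Fin n) (Fin n) F) c) : Y ∈ Subgroup.center (Matrix.SpecialLinearGroup (Fin n) F) := by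
  rw [Matrix.SpecialLinearGroup.mem_center_iff]
  refine ⟨c, ?_, h.symm⟩
  have h1 : (Y : Matrix (Fin n) (Fin n) F).det = 1 := Y.2
  rw [h, Matrix.algebraMap_eq_diagonal, Matrix.det_diagonal] at h1
  simpa using h1

theorem scalar_of_center {Y : Matrix.SpecialLinearGroup (Fin n) F}
    (h : Y ∈ Subgroup.center (Matrix.SpecialLinearGroup (Fin n) F)) :
    ∃ c : F, (Y : Matrix (Fin n) (Fin n) F) = algebraMap F (Matrix (Fin n) (Fin n) F) c := by
  rw [Matrix.SpecialLinearGroup.mem_center_iff] at h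
  obtain ⟨c, -, hc⟩ := h
  exact ⟨c, hc.symm⟩

/-- the order of the image of `x` -/
theorem dvd_of_pow {P : F[X]} {x : Matrix.SpecialLinearGroup (Fin n) F}
    (hx : ∀ Q : F[X], aeval (x : Matrix (Fin n) (Fin n) F) Q = 0 ↔ P ∣ Q) {b : AlgebraicClosure F}
    (hb : aeval b P = 0) (h1 : aeval (1 : AlgebraicClosure F) P = 0) :
    orderOf b ∣ orderOf (x : Matrix.ProjectiveSpecialLinearGroup (Fin n) F) := by
  set o := orderOf (x : Matrix.ProjectiveSpecialLinearGroup (Fin n) F) with ho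
  have h4 : (x : Matrix.ProjectiveSpecialLinearGroup (Fin n) F) ^ o = 1 := pow_orderOf_eq_one _
  rw [← QuotientGroup.mk_pow] at h4
  obtain ⟨c, hc⟩ := scalar_of_center ((QuotientGroup.eq_one_iff _).1 h4)
  have hc' : (x : Matrix (Fin n) (Fin n) F) ^ o = algebraMap F (Matrix (Fin n) (Fin n) F) c :=
    (Matrix.SpecialLinearGroup.coe_pow x o).symm.trans hc
  have h5 : P ∣ X ^ o - C c := by
    rw [← hx, map_sub, map_pow, aeval_X, aeval_C, hc', sub_self]
  obtain ⟨Q, hQ⟩ := h5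
  have key : ∀ t : AlgebraicClosure F, aeval t P = 0 → t ^ o = algebraMap F _ c := by
    intro t ht
    have h6 : aeval t (X ^ o - C c) = 0 := by rw [hQ, map_mul, ht, zero_mul]
    rw [map_sub, map_pow, aeval_X, aeval_C] at h6
    exact sub_eq_zero.1 h6
  have h7 := key 1 h1
  rw [one_pow] at h7
  rw [orderOf_dvd_iff_pow_eq_one, key b hb, ← h7]

theorem orderOf_mk_dvd (x : Matrix.SpecialLinearGroup (Fin n) F) :
    orderOf (x : Matrix.ProjectiveSpecialLinearGroup (Fin n) F) ∣ orderOf x :=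
  orderOf_map_dvd (QuotientGroup.mk' (Subgroup.center (Matrix.SpecialLinearGroup (Fin n) F))) x

theorem charpoly_eval (Y : Matrix.SpecialLinearGroup (Fin n) F) :
    (Y : Matrix (Fin n) (Fin n) F).charpoly.eval 0 ≠ 0 := by
  intro h
  have h1 := Matrix.det_eq_sign_charpoly_coeff (Y : Matrix (Fin n) (Fin n) F)
  have h2 : (Y : Matrix (Fin n) (Fin n) F).det = 1 := Y.2
  rw [coeff_zero_eq_eval_zero, h, mul_zero, h2] at h1
  exact one_ne_zero h1

theorem natDegree_charpoly (Y : Matrix.SpecialLinearGroup (Fin n) F) :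
    (Y : Matrix (Fin n) (Fin n) F).charpoly.natDegree = n := by
  rw [Matrix.charpoly_natDegree_eq_dim, Fintype.card_fin]

theorem dvd_of_pow_mat {Y : Matrix.SpecialLinearGroup (Fin n) F} {r : ℕ} (hr : r ∣ orderOf Y) (k : ℕ)
    (hk : (Y : Matrix (Fin n) (Fin n) F) ^ k = 1) : r ∣ k := by
  have h1 : Y ^ k = 1 := Subtype.ext ((Matrix.SpecialLinearGroup.coe_pow Y k).trans hk)
  exact hr.trans (orderOf_dvd_of_pow_eq_one h1)

theorem one_root (P : F[X]) : aeval (1 : AlgebraicClosure F) (P * (X - 1)) = 0 := by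
  rw [map_mul, map_sub, aeval_X, map_one, sub_self, mul_zero]

variable [Fintype F]

theorem scalar_mat (p : ℕ) [Fact p.Prime] [CharP F p] (M : Matrix (Fin n) (Fin n) F) (hsq : Squarefree M.charpoly)
    {c : F} {N : ℕ} (h : (M ^ N) ^ p = algebraMap F (Matrix (Fin n) (Fin n) F) c) :
    ∃ c0 : F, M ^ N = algebraMap F (Matrix (Fin n) (Fin n) F) c0 :=
  scalar_of_pow (A := Matrix (Fin n) (Fin n) F) (y := M) (P := M.charpoly) p hsq (Matrix.aeval_self_charpoly M) h

/-- **`p * o` is not an element order** -/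
theorem ne_of_squarefree (p : ℕ) [Fact p.Prime] [CharP F p] {o : ℕ} (ho : 0 < o)
    (h : ∀ Y : Matrix.SpecialLinearGroup (Fin n) F, o ∣ orderOf Y → Squarefree (Y : Matrix (Fin n) (Fin n) F).charpoly)
    (y : Matrix.ProjectiveSpecialLinearGroup (Fin n) F) : orderOf y ≠ p * o := by
  intro he
  obtain ⟨Y, rfl⟩ := QuotientGroup.mk_surjective y
  have h1 : o ∣ orderOf Y := by
    have h2 : orderOf (Y : Matrix.ProjectiveSpecialLinearGroup (Fin n) F) ∣ orderOf Y :=
      orderOf_map_dvd (QuotientGroup.mk' (Subgroup.center (Matrix.SpecialLinearGroup (Fin n) F))) Y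
    rw [he] at h2
    exact (Dvd.intro_left p rfl).trans h2
  have hsq := h Y h1
  have h3 : Y ^ (o * p) ∈ Subgroup.center (Matrix.SpecialLinearGroup (Fin n) F) := by
    have h4 : (Y : Matrix.ProjectiveSpecialLinearGroup (Fin n) F) ^ (o * p) = 1 := by
      rw [mul_comm, ← he, pow_orderOf_eq_one]
    rw [← QuotientGroup.mk_pow] at h4
    exact (QuotientGroup.eq_one_iff _).1 h4
  obtain ⟨c, hc⟩ := scalar_of_center h3
  have hc' : ((Y : Matrix (Fin n) (Fin n) F) ^ o) ^ p = algebraMap F (Matrix (Fin n) (Fin n) F) c := by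
    rw [← pow_mul]
    exact (Matrix.SpecialLinearGroup.coe_pow Y (o * p)).symm.trans hc
  obtain ⟨c0, hc0⟩ := scalar_mat p _ hsq hc'
  have h5 : Y ^ o ∈ Subgroup.center (Matrix.SpecialLinearGroup (Fin n) F) :=
    mem_center_of ((Matrix.SpecialLinearGroup.coe_pow Y o).trans hc0)
  have h6 : (Y : Matrix.ProjectiveSpecialLinearGroup (Fin n) F) ^ o = 1 := by
    rw [← QuotientGroup.mk_pow]
    exact (QuotientGroup.eq_one_iff _).2 h5
  have h7 := orderOf_dvd_of_pow_eq_one h6
  rw [he] at h7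
  have h8 := Nat.le_of_dvd ho h7
  have h9 := (Fact.out : p.Prime).one_lt
  nlinarith

/-- an irreducible factor of the characteristic polynomial -/
theorem factor (p : ℕ) [Fact p.Prime] [CharP F p] {b : AlgebraicClosure F} {r a : ℕ} (h : Blk b r a)
    (hr : r.Prime ∨ a.Prime) (hrp : r.Coprime p) {Y : Matrix.SpecialLinearGroup (Fin n) F} (hY : r ∣ orderOf Y) :
    ∃ f : F[X], Irreducible f ∧ f ∣ (Y : Matrix (Fin n) (Fin n) F).charpoly ∧ a ∣ f.natDegree := by
  rcases hr with hr | hr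
  · have h0 : r ≠ p := by
      rintro rfl
      exact hr.ne_one ((Nat.coprime_self _).1 hrp)
    exact exists_factor (A := Matrix (Fin n) (Fin n) F) (y := (Y : Matrix (Fin n) (Fin n) F)) p (charpoly_eval Y)
      (Matrix.aeval_self_charpoly (Y : Matrix (Fin n) (Fin n) F)) hr h0
      (fun d _ hd => (h.iff d).1 hd) (dvd_of_pow_mat hY)
  · exact exists_factor' (A := Matrix (Fin n) (Fin n) F) (y := (Y : Matrix (Fin n) (Fin n) F)) p (charpoly_eval Y)
      (Matrix.aeval_self_charpoly (Y : Matrix (Fin n) (Fin n) F)) hr hrp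
      (fun d _ hd => (h.iff d).1 hd) (dvd_of_pow_mat hY)

/-- `n` odd -/
theorem hit_one (hE : EngA.{u, v}) (p : ℕ) [Fact p.Prime] [CharP F p] {m : ℕ} (hm : 1 ≤ m) (hn : n = 2 * m + 1)
    {b : AlgebraicClosure F} {r : ℕ} (h : Blk b r (2 * m)) (hrm : r ∣ Fintype.card F ^ m + 1) (hr : r ≠ 1)
    (hrp : r.Coprime p) (hpr : r.Prime ∨ m = 1) : Hit.{u, v} p (Matrix.ProjectiveSpecialLinearGroup (Fin n) F) := by
  obtain ⟨h1, h2, h3, h4⟩ := cov_one h hrm hr
  obtain ⟨x, hxQ, hxr, hxF⟩ := exists_elt hE p h1 (h2.trans hn.symm) (by omega) h3 h4 hrp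
  have hr1 : r ∣ orderOf (x : Matrix.ProjectiveSpecialLinearGroup (Fin n) F) := by
    rw [← h.ord]
    exact dvd_of_pow hxQ (by rw [map_mul, minpoly.aeval, zero_mul]) (one_root _)
  have hr2 : orderOf (x : Matrix.ProjectiveSpecialLinearGroup (Fin n) F) ∣ r :=
    (orderOf_mk_dvd x).trans (orderOf_dvd_of_pow_eq_one hxr)
  have hro : orderOf (x : Matrix.ProjectiveSpecialLinearGroup (Fin n) F) = r := Nat.dvd_antisymm hr2 hr1
  refine hit_of_fixAll (x := (x : Matrix.ProjectiveSpecialLinearGroup (Fin n) F))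
    (hxF.map (QuotientGroup.mk' (Subgroup.center (Matrix.SpecialLinearGroup (Fin n) F)))) (by rw [hro]; exact hrp) ?_
  rw [hro]
  refine ne_of_squarefree p h.r_pos fun Y hY => ?_
  obtain ⟨f, hf, hfP, hfd⟩ := factor p h (hpr.imp_right fun h => by rw [h]; exact Nat.prime_two) hrp hY
  exact sq_two (a := 2 * m) (by omega) (by rw [natDegree_charpoly, hn]) hf hfP hfd

/-- `n` even -/
theorem hit_two (hE : EngA.{u, v}) (p : ℕ) [Fact p.Prime] [CharP F p] {m l : ℕ} (hm : 1 ≤ m) (hn : n = 2 * m + l + 1)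
    (hl : 2 ≤ l) (hlm : l ≤ 2 * m + 2) (hcop : (2 * m).Coprime l) (hle : 2 * m + l + 1 ≤ 2 * m * l)
    {b c : AlgebraicClosure F} {r s : ℕ} (h : Blk b r (2 * m)) (hrm : r ∣ Fintype.card F ^ m + 1) (hr : r ≠ 1)
    (hrp : r.Coprime p) (hpr : r.Prime ∨ m = 1) (hc : Blk c s l) (hs : s.Prime) (hsp : s.Coprime p)
    (hrs : r.Coprime s) : Hit.{u, v} p (Matrix.ProjectiveSpecialLinearGroup (Fin n) F) := by
  have hrs' : r ≠ s := by
    rintro rfl
    exact hr ((Nat.coprime_self _).1 hrs)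
  obtain ⟨h1, h2, h3, h4⟩ := cov_two h hrm hr hc hs hrs' hl hlm
  obtain ⟨x, hxQ, hxr, hxF⟩ := exists_elt hE p h1 (h2.trans hn.symm) (by omega) h3 h4 (Nat.Coprime.mul_left hrp hsp)
  have hone : aeval (1 : AlgebraicClosure F) (minpoly F b * (minpoly F c * (X - 1))) = 0 := by
    rw [← mul_assoc]; exact one_root _
  have hr1 : r ∣ orderOf (x : Matrix.ProjectiveSpecialLinearGroup (Fin n) F) := by
    rw [← h.ord]
    exact dvd_of_pow hxQ (by rw [map_mul, minpoly.aeval, zero_mul]) hone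
  have hs1 : s ∣ orderOf (x : Matrix.ProjectiveSpecialLinearGroup (Fin n) F) := by
    rw [← hc.ord]
    exact dvd_of_pow hxQ (by rw [map_mul, map_mul, minpoly.aeval, zero_mul, mul_zero]) hone
  have hr2 : orderOf (x : Matrix.ProjectiveSpecialLinearGroup (Fin n) F) ∣ r * s :=
    (orderOf_mk_dvd x).trans (orderOf_dvd_of_pow_eq_one hxr)
  have hro : orderOf (x : Matrix.ProjectiveSpecialLinearGroup (Fin n) F) = r * s :=
    Nat.dvd_antisymm hr2 (hrs.mul_dvd_of_dvd_of_dvd hr1 hs1)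
  refine hit_of_fixAll (x := (x : Matrix.ProjectiveSpecialLinearGroup (Fin n) F))
    (hxF.map (QuotientGroup.mk' (Subgroup.center (Matrix.SpecialLinearGroup (Fin n) F))))
    (by rw [hro]; exact Nat.Coprime.mul_left hrp hsp) ?_
  rw [hro]
  refine ne_of_squarefree p (Nat.mul_pos h.r_pos hc.r_pos) fun Y hY => ?_
  obtain ⟨f, hf, hfP, hfd⟩ := factor p h (hpr.imp_right fun h => by rw [h]; exact Nat.prime_two) hrp
    ((Dvd.intro s rfl).trans hY)
  obtain ⟨g, hg, hgP, hgd⟩ := factor p hc (Or.inl hs) hsp ((Dvd.intro_left r rfl).trans hY)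
  exact sq_three (a := 2 * m) (by omega) hl hcop (by rw [natDegree_charpoly, hn]) hle hf hfP hfd hg hgP hgd

/-! ### existence of the blocks -/

theorem exists_blk (p : ℕ) [Fact p.Prime] [CharP F p] {r a : ℕ} (ha : 0 < a)
    (h : ∀ d, r ∣ Fintype.card F ^ d - 1 ↔ a ∣ d) : r.Coprime p ∧ ∃ b : AlgebraicClosure F, Blk b r a := by
  have hq : 2 ≤ Fintype.card F := Fintype.one_lt_card
  have h0 := (h a).2 dvd_rfl
  have hqa : Fintype.card F ≤ Fintype.card F ^ a := Nat.le_self_pow ha.ne' _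
  have hr0 : r ≠ 0 := by
    rintro rfl
    rw [zero_dvd_iff] at h0
    omega
  have hpq : p ∣ Fintype.card F := by
    obtain ⟨k, hp', hk⟩ := FiniteField.card F p
    rw [hk]
    exact dvd_pow_self _ k.pos.ne'
  have hrp : r.Coprime p := by
    refine Nat.Coprime.symm ((Nat.Prime.coprime_iff_not_dvd Fact.out).2 fun hd => ?_)
    have h1 : p ∣ Fintype.card F ^ a - 1 := hd.trans h0
    have h2 : p ∣ Fintype.card F ^ a := dvd_pow hpq ha.ne'
    have h3 : p ∣ 1 := by
      have h4 := (Nat.dvd_sub h2 h1)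
      rwa [Nat.sub_sub_self (by omega)] at h4
    exact (Fact.out : p.Prime).one_lt.ne' (Nat.dvd_one.1 h3)
  refine ⟨hrp, ?_⟩
  have hch : CharP (AlgebraicClosure F) p :=
    charP_of_injective_algebraMap (algebraMap F (AlgebraicClosure F)).injective p
  have hNk : ((r : ℕ) : AlgebraicClosure F) ≠ 0 := by
    intro h5
    have h6 : p ∣ r := (CharP.cast_eq_zero_iff (AlgebraicClosure F) p r).1 h5
    exact (Fact.out : p.Prime).one_lt.ne' (Nat.dvd_one.1 (by rw [← hrp]; exact Nat.dvd_gcd h6 dvd_rfl))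
  have : NeZero ((r : ℕ) : AlgebraicClosure F) := ⟨hNk⟩
  have : NeZero r := ⟨hr0⟩
  obtain ⟨ζ, hζ⟩ := HasEnoughRootsOfUnity.exists_primitiveRoot (AlgebraicClosure F) r
  exact ⟨ζ, hζ.eq_orderOf.symm, h, ha⟩

/-- a number `r` for the exponent `2 m` -/
theorem exists_r {q m : ℕ} (hq : 2 ≤ q) (hm : 1 ≤ m) (hex : m = 3 → 2 < q) :
    ∃ r : ℕ, (r.Prime ∨ m = 1) ∧ r ≠ 1 ∧ (∀ d, r ∣ q ^ d - 1 ↔ 2 * m ∣ d) ∧ r ∣ q ^ m + 1 := by
  have key : (m = 1 → ¬ ∃ k, q + 1 = 2 ^ k) →
      ∃ r : ℕ, (r.Prime ∨ m = 1) ∧ r ≠ 1 ∧ (∀ d, r ∣ q ^ d - 1 ↔ 2 * m ∣ d) ∧ r ∣ q ^ m + 1 := by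
    intro h1
    obtain ⟨r, hr, h2, -, -⟩ := Cfsg.Agent.Lib.Zsigmondy.exists_primitive (a := q) (n := 2 * m) hq (by omega)
      (fun h => h1 (by omega)) (by
        rintro ⟨rfl, h3⟩
        have := hex (by omega)
        omega)
    refine ⟨r, Or.inl hr, hr.ne_one, h2, ?_⟩
    have h3 : r ∣ (q ^ m - 1) * (q ^ m + 1) := by
      have h4 := (h2 (2 * m)).2 dvd_rfl
      have h5 : (q ^ m - 1) * (q ^ m + 1) = q ^ (2 * m) - 1 := by
        obtain ⟨t, ht⟩ : ∃ t, q ^ m = t + 1 := ⟨_, (Nat.sub_add_cancel (Nat.one_le_pow _ _ (by omega))).symm⟩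
        rw [mul_comm 2 m, pow_mul, ht, Nat.add_sub_cancel]
        have : (t + 1) ^ 2 = t * (t + 1 + 1) + 1 := by ring
        omega
      rw [h5]; exact h4
    rcases (Nat.Prime.dvd_mul hr).1 h3 with h4 | h4
    · have h5 := Nat.le_of_dvd hm ((h2 m).1 h4)
      omega
    · exact h4
  by_cases hk : ∃ k, q + 1 = 2 ^ k
  · by_cases hm1 : m = 1
    · subst hm1
      obtain ⟨k, hk⟩ := hk
      have hk2 : 2 ≤ k := by
        by_contra h
        have : k = 0 ∨ k = 1 := by omega
        rcases this with rfl | rfl <;> omega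
      obtain ⟨j, rfl⟩ := Nat.exists_eq_add_of_le hk2
      have h4 : q % 4 = 3 := by
        rw [pow_add] at hk
        omega
      refine ⟨4, Or.inr rfl, by norm_num, fun d => ?_, ?_⟩
      · have h5 : ∀ d, q ^ d % 4 = if d % 2 = 0 then 1 else 3 := by
          intro d
          induction d with
          | zero => norm_num
          | succ d ih =>
            rw [pow_succ, Nat.mul_mod, ih, h4]
            rcases Nat.mod_two_eq_zero_or_one d with h6 | h6
            · rw [if_pos h6, if_neg (by omega)]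
            · rw [if_neg (by omega), if_pos (by omega)]
        have h6 := h5 d
        have h7 : 1 ≤ q ^ d := Nat.one_le_pow _ _ (by omega)
        rw [mul_one]
        constructor
        · intro h8
          by_contra h9
          rw [if_neg (by omega)] at h6
          omega
        · intro h8
          rw [if_pos (by omega)] at h6
          omega
      · rw [pow_one]
        omega
    · exact key fun h => absurd h hm1
  · exact key fun _ => hk

theorem coprime_rs {q r s m l : ℕ} (hr : r.Prime ∨ m = 1) (hs : s.Prime) (h1 : ∀ d, r ∣ q ^ d - 1 ↔ 2 * m ∣ d)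
    (h2 : ∀ d, s ∣ q ^ d - 1 ↔ l ∣ d) (hl : l % 2 = 1) (hl2 : 2 ≤ l) (hrm : r ∣ q ^ m + 1) : r.Coprime s := by
  refine Nat.Coprime.symm ((Nat.Prime.coprime_iff_not_dvd hs).2 fun hd => ?_)
  have h3 : s ∣ q ^ (2 * m) - 1 := hd.trans ((h1 _).2 dvd_rfl)
  have h4 : l ∣ 2 * m := (h2 _).1 h3
  rcases hr with hr | rfl
  · have h5 : s = r := (Nat.prime_dvd_prime_iff_eq hs hr).1 hd
    subst h5
    have h6 := (Dvd.intro m rfl).trans ((h1 l).1 ((h2 l).2 dvd_rfl))
    omega
  · have h5 := Nat.le_of_dvd (by norm_num) h4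
    have : l = 2 := by omega
    omega

/-- **the row O1** -/
theorem hit_psl (hE : EngA.{u, v}) (p : ℕ) [Fact p.Prime] [CharP F p] (hn : n = 3 ∨ 5 ≤ n)
    (hq2 : 5 ≤ n → 2 < Fintype.card F) : Hit.{u, v} p (Matrix.ProjectiveSpecialLinearGroup (Fin n) F) := by
  have hq : 2 ≤ Fintype.card F := Fintype.one_lt_card
  rcases Nat.even_or_odd' n with ⟨k, hk | hk⟩
  · -- `n` even
    have hk3 : 3 ≤ k := by omega
    have hq3 := hq2 (by omega)
    obtain ⟨m, l, hm, hl, hlo, hnl, hlm, hcop, hle⟩ : ∃ m l : ℕ, 1 ≤ m ∧ 3 ≤ l ∧ l % 2 = 1 ∧ n = 2 * m + l + 1 ∧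
        l ≤ 2 * m + 2 ∧ (2 * m).Coprime l ∧ 2 * m + l + 1 ≤ 2 * m * l := by
      rcases Nat.even_or_odd' k with ⟨j, hj | hj⟩
      · -- `k = 2 j`, `m = j`, `l = 2 j - 1`
        obtain ⟨i, rfl⟩ := Nat.exists_eq_add_of_le (show 2 ≤ j by omega)
        refine ⟨2 + i, 2 * i + 3, by omega, by omega, by omega, by omega, by omega, ?_, by nlinarith⟩
        have h1 : 2 * (2 + i) = (2 * i + 3) + 1 := by omega
        rw [h1]
        exact Nat.coprime_self_add_left.2 (Nat.coprime_one_left _)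
      · -- `k = 2 j + 1`, `m = j`, `l = 2 j + 1`
        obtain ⟨i, rfl⟩ := Nat.exists_eq_add_of_le (show 1 ≤ j by omega)
        refine ⟨1 + i, 2 * i + 3, by omega, by omega, by omega, by omega, by omega, ?_, by nlinarith⟩
        have h1 : 2 * i + 3 = 2 * (1 + i) + 1 := by omega
        rw [h1]
        exact Nat.coprime_self_add_right.2 (Nat.coprime_one_right _)
    obtain ⟨r, hr, hr1, hri, hrm⟩ := exists_r hq hm (fun _ => hq3)
    obtain ⟨s, hs, hsi, -, -⟩ := Cfsg.Agent.Lib.Zsigmondy.exists_primitive (a := Fintype.card F) (n := l) hq (by omega)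
      (fun h => by omega) (by rintro ⟨h, -⟩; omega)
    obtain ⟨hrp, b, hb⟩ := exists_blk p (a := 2 * m) (by omega) hri
    obtain ⟨hsp, c, hc⟩ := exists_blk p (a := l) (by omega) hsi
    exact hit_two hE p hm hnl (by omega) hlm hcop hle hb hrm hr1 hrp hr hc hs hsp
      (coprime_rs hr hs hri hsi hlo (by omega) hrm)
  · -- `n` odd
    obtain ⟨r, hr, hr1, hri, hrm⟩ := exists_r (m := k) hq (by omega) (fun h => hq2 (by omega))
    obtain ⟨hrp, b, hb⟩ := exists_blk p (a := 2 * k) (by omega) hri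
    exact hit_one hE p (m := k) (by omega) hk hb hrm hr1 hrp hr

end SL

end Cfsg.Agent.H72.CVA
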